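import Groth.Agent.Cartier57.Alg
import Groth.Agent.Grp57.Unit
import Mathlib.AlgebraicGeometry.Stalk
import Mathlib.Algebra.DualNumber
import Mathlib.AlgebraicGeometry.Morphisms.FiniteType
import Mathlib.AlgebraicGeometry.Noetherian
import Mathlib.RingTheory.Jacobson.Ring

/-!
Invariant derivations of the local ring at the identity of a group scheme over a field.
-/

set_option autoImplicit false
universe u
open CategoryTheory CategoryTheory.Limits MonoidalCategory CartesianMonoidalCategory MonObj GrpObj AlgebraicGeometry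
open TrivSqZeroExt IsLocalRing

namespace Groth.Agent.Cartier57

instance isLocalRing_dual (R : Type u) [CommRing R] [IsLocalRing R] : IsLocalRing (DualNumber R) := by
  have : Nontrivial (DualNumber R) := TrivSqZeroExt.fst_surjective.nontrivial
  refine .of_isUnit_or_isUnit_one_sub_self fun a => ?_
  rw [TrivSqZeroExt.isUnit_iff_isUnit_fst, TrivSqZeroExt.isUnit_iff_isUnit_fst]
  simpa using IsLocalRing.isUnit_or_isUnit_one_sub_self a.fst

/-- `a + bε ↦ f a + (f b) ε` -/
def dualMap {R S : Type u} [CommRing R] [CommRing S] (f : R →+* S) : DualNumber R →+* DualNumber S where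
  toFun a := inl (f a.fst) + inr (f a.snd)
  map_one' := by ext <;> simp
  map_mul' a b := by ext <;> simp [mul_comm]
  map_zero' := by ext <;> simp
  map_add' a b := by ext <;> simp

@[simp] theorem fst_dualMap {R S : Type u} [CommRing R] [CommRing S] (f : R →+* S) (a : DualNumber R) :
    (dualMap f a).fst = f a.fst := by simp [dualMap]

@[simp] theorem snd_dualMap {R S : Type u} [CommRing R] [CommRing S] (f : R →+* S) (a : DualNumber R) :
    (dualMap f a).snd = f a.snd := by simp [dualMap]

/-- a ring map to dual numbers from a map and a derivation along it -/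
def mkDual {R S : Type u} [CommRing R] [CommRing S] (f : R →+* S) (d : R → S)
    (h1 : ∀ a b, d (a + b) = d a + d b) (h2 : ∀ a b, d (a * b) = f a * d b + f b * d a) :
    R →+* DualNumber S where
  toFun a := inl (f a) + inr (d a)
  map_one' := by
    have : d 1 = 0 := by simpa using h2 1 1
    ext <;> simp [this]
  map_mul' a b := by ext <;> simp [h2]; ring
  map_zero' := by
    have : d 0 = 0 := by simpa using h1 0 0
    ext <;> simp [this]
  map_add' a b := by ext <;> simp [h1]

theorem exists_stalk_lift {X : Scheme.{u}} {R : CommRingCat.{u}} [IsLocalRing R] (φ : Spec R ⟶ X) {x : X}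
    (h : φ (IsLocalRing.closedPoint R) = x) :
    ∃ ψ : X.presheaf.stalk x ⟶ R, Spec.map ψ ≫ X.fromSpecStalk x = φ := by
  subst h
  exact ⟨_, Scheme.Spec_stalkClosedPointTo_fromSpecStalk φ⟩

theorem eq_of_specMap_comp {X : Scheme.{u}} {x : X} {R : CommRingCat.{u}}
    {f g : X.presheaf.stalk x ⟶ R} (h : Spec.map f ≫ X.fromSpecStalk x = Spec.map g ≫ X.fromSpecStalk x) :
    f = g :=
  Spec.map_injective ((cancel_mono _).1 h)

variable {K : Type u} [Field K] (G : Over (Spec (CommRingCat.of K))) [GrpObj G]

/-- the structure map of the local ring at the identity -/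
noncomputable def strMap : CommRingCat.of K ⟶ G.left.presheaf.stalk (Grp57.unitPt G) :=
  Spec.preimage (G.left.fromSpecStalk (Grp57.unitPt G) ≫ G.hom)

/-- evaluation at the identity -/
noncomputable def evalMap : G.left.presheaf.stalk (Grp57.unitPt G) ⟶ CommRingCat.of K :=
  (exists_stalk_lift (R := CommRingCat.of K) η[G].left rfl).choose

theorem evalMap_spec : Spec.map (evalMap G) ≫ G.left.fromSpecStalk (Grp57.unitPt G) = η[G].left :=
  (exists_stalk_lift (R := CommRingCat.of K) η[G].left rfl).choose_spec

theorem strMap_evalMap : strMap G ≫ evalMap G = 𝟙 _ := by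
  apply Spec.map_injective
  rw [Spec.map_comp, strMap, Spec.map_preimage, ← Category.assoc, evalMap_spec, Spec.map_id]
  exact Over.w η[G]

/-- a morphism `Spec R ⟶ G` over `K` induced by a map out of the local ring at the identity -/
noncomputable def point {R : CommRingCat.{u}} (f : G.left.presheaf.stalk (Grp57.unitPt G) ⟶ R)
    (s : CommRingCat.of K ⟶ R) (h : strMap G ≫ f = s) : Over.mk (Spec.map s) ⟶ G :=
  Over.homMk (Spec.map f ≫ G.left.fromSpecStalk (Grp57.unitPt G)) (by
    rw [← h, Spec.map_comp, strMap, Spec.map_preimage, Category.assoc]; rfl)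

theorem point_eq_one {R : CommRingCat.{u}} (s : CommRingCat.of K ⟶ R)
    (f : G.left.presheaf.stalk (Grp57.unitPt G) ⟶ R) (h : strMap G ≫ f = s)
    (hf : evalMap G ≫ s = f) : point G f s h = 1 := by
  ext1
  show Spec.map f ≫ G.left.fromSpecStalk (Grp57.unitPt G) = _
  rw [← hf, Spec.map_comp, Category.assoc, evalMap_spec, Hom.one_def,
    Over.comp_left, Over.toUnit_left]
  rfl

theorem comp_point {R R' : CommRingCat.{u}} (f : G.left.presheaf.stalk (Grp57.unitPt G) ⟶ R)
    (s : CommRingCat.of K ⟶ R) (h : strMap G ≫ f = s) (g : R ⟶ R') (s' : CommRingCat.of K ⟶ R')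
    (hs : s ≫ g = s') :
    (Over.homMk (Spec.map g) (by subst hs; simp) : Over.mk (Spec.map s') ⟶ Over.mk (Spec.map s)) ≫
      point G f s h = point G (f ≫ g) s' (by rw [← Category.assoc, h, hs]) := by
  ext1
  simp [point]

local notation "O" => G.left.presheaf.stalk (Grp57.unitPt G)

/-- an invariant derivation with prescribed value at the identity -/
theorem exists_derivation
    (ℓ : O → K)
    (hadd : ∀ a b, ℓ (a + b) = ℓ a + ℓ b)
    (hmul : ∀ a b, ℓ (a * b) = evalMap G a * ℓ b + evalMap G b * ℓ a)
    (hK : ∀ c : K, ℓ (strMap G c) = 0) :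
    ∃ D : O → O,
      (∀ a b, D (a + b) = D a + D b) ∧ (∀ a b, D (a * b) = a * D b + b * D a) ∧
      (∀ c, D (strMap G c) = 0) ∧ ∀ a, evalMap G (D a) = ℓ a := by
  let i : O ⟶ CommRingCat.of (DualNumber O) := CommRingCat.ofHom (inlHom O O)
  let i2 : CommRingCat.of K ⟶ CommRingCat.of (DualNumber K) := CommRingCat.ofHom (inlHom K K)
  let r : CommRingCat.of (DualNumber O) ⟶ O := CommRingCat.ofHom (fstHom O O O).toRingHom
  let q : CommRingCat.of (DualNumber O) ⟶ CommRingCat.of (DualNumber K) :=
    CommRingCat.ofHom (dualMap (evalMap G).hom)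
  let s : CommRingCat.of K ⟶ CommRingCat.of (DualNumber O) := strMap G ≫ i
  have hev : ∀ c, evalMap G (strMap G c) = c := fun c => congr($(strMap_evalMap G) c)
  let v : O ⟶ CommRingCat.of (DualNumber O) := CommRingCat.ofHom
    (mkDual (evalMap G ≫ strMap G).hom (fun a => strMap G (ℓ a))
      (fun a b => (congrArg _ (hadd a b)).trans (map_add _ _ _))
      (fun a b => (congrArg _ (hmul a b)).trans <| (map_add _ _ _).trans <|
        congrArg₂ _ (map_mul _ _ _) (map_mul _ _ _)))
  have hsr : s ≫ r = strMap G := rfl
  have hsq : s ≫ q = i2 := CommRingCat.hom_ext (RingHom.ext fun c => by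
    show dualMap (evalMap G).hom (inl (strMap G c)) = inl c
    refine TrivSqZeroExt.ext ?_ ?_
    · simp only [fst_dualMap, fst_inl]; exact hev c
    · simp only [snd_dualMap, snd_inl]; exact map_zero _)
  have hv : strMap G ≫ v = s := CommRingCat.hom_ext (RingHom.ext fun c => by
    show inl (strMap G (evalMap G (strMap G c))) + inr (strMap G (ℓ (strMap G c))) = inl (strMap G c)
    rw [hev, hK, map_zero, inr_zero, add_zero])
  have hvr : evalMap G ≫ strMap G = v ≫ r := CommRingCat.hom_ext (RingHom.ext fun a => by
    show strMap G (evalMap G a) = (inl (strMap G (evalMap G a)) + inr (strMap G (ℓ a)) : DualNumber O).fst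
    simp)
  have hiq : evalMap G ≫ i2 = i ≫ q := CommRingCat.hom_ext (RingHom.ext fun a => by
    show inl (evalMap G a) = dualMap (evalMap G).hom (inl a)
    refine TrivSqZeroExt.ext ?_ ?_
    · simp only [fst_dualMap, fst_inl]
    · simp only [snd_dualMap, snd_inl]; exact (map_zero _).symm)
  let a := point G i s rfl
  let b := point G v s hv
  let rr : Over.mk (Spec.map (strMap G)) ⟶ Over.mk (Spec.map s) :=
    Over.homMk (Spec.map r) (by show Spec.map r ≫ Spec.map s = Spec.map _; rw [← Spec.map_comp, hsr])
  let qq : Over.mk (Spec.map i2) ⟶ Over.mk (Spec.map s) :=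
    Over.homMk (Spec.map q) (by show Spec.map q ≫ Spec.map s = Spec.map _; rw [← Spec.map_comp, hsq])
  have hr : rr ≫ (a * b) = point G (𝟙 O) (strMap G) (Category.comp_id _) := by
    have h1 : rr ≫ b = 1 := by
      rw [show rr ≫ b = _ from comp_point G v s hv r (strMap G) hsr]
      exact point_eq_one G _ _ _ hvr
    rw [comp_mul, h1, _root_.mul_one, show rr ≫ a = _ from comp_point G i s rfl r (strMap G) hsr]
    congr 1
  have hq : qq ≫ (a * b) = point G (v ≫ q) i2 (by rw [← Category.assoc, hv, hsq]) := by
    have h1 : qq ≫ a = 1 := by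
      rw [show qq ≫ a = _ from comp_point G i s rfl q i2 hsq]
      exact point_eq_one G _ _ _ hiq
    rw [comp_mul, h1, _root_.one_mul]
    exact comp_point G v s hv q i2 hsq
  have hpt : (a * b).left (IsLocalRing.closedPoint (CommRingCat.of (DualNumber O))) = Grp57.unitPt G := by
    have h1 := congr($(congrArg Over.Hom.left hr) (IsLocalRing.closedPoint O))
    have h2 : Spec.map r (IsLocalRing.closedPoint O) = IsLocalRing.closedPoint (CommRingCat.of (DualNumber O)) := by
      have : IsLocalHom r.hom := ⟨fun a ha => by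
        rw [TrivSqZeroExt.isUnit_iff_isUnit_fst]; exact ha⟩
      exact Spec_closedPoint
    rw [← h2]
    refine Eq.trans ?_ ((Scheme.fromSpecStalk_closedPoint (X := G.left) (x := Grp57.unitPt G)))
    refine h1.trans ?_
    simp [point]
  obtain ⟨ψ, hψ⟩ := exists_stalk_lift (R := CommRingCat.of (DualNumber O)) (a * b).left hpt
  have hfst : ψ ≫ r = 𝟙 O := eq_of_specMap_comp (by
    rw [Spec.map_comp, Category.assoc, hψ]
    exact congrArg Over.Hom.left hr)
  have hval : ψ ≫ q = v ≫ q := eq_of_specMap_comp (by
    rw [Spec.map_comp, Category.assoc, hψ]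
    exact congrArg Over.Hom.left hq)
  have hstr : strMap G ≫ ψ = s := by
    apply Spec.map_injective
    rw [Spec.map_comp, strMap, Spec.map_preimage, ← Category.assoc, hψ]
    exact Over.w (a * b)
  have hf : ∀ a, (ψ a).fst = a := fun a => congr($hfst a)
  refine ⟨fun a => (ψ a).snd, fun a b => ?_, fun a b => ?_, fun c => ?_, fun a => ?_⟩
  · show (ψ (a + b)).snd = _
    rw [map_add, snd_add]
  · show (ψ (a * b)).snd = _
    rw [map_mul, DualNumber.snd_mul, hf, hf]
    ring
  · show ((strMap G ≫ ψ) c).snd = 0
    rw [hstr]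
    exact snd_inl _ _
  · have h : (dualMap (evalMap G).hom (ψ a)).snd =
        (dualMap (evalMap G).hom (inl (strMap G (evalMap G a)) + inr (strMap G (ℓ a)) : DualNumber O)).snd :=
      congr(($hval a).snd)
    rw [snd_dualMap, snd_dualMap, snd_add, snd_inl, snd_inr, zero_add] at h
    exact h.trans (hev _)

theorem isDomain_stalk_unit [CharZero K] [LocallyOfFiniteType G.hom] :
    IsDomain (G.left.presheaf.stalk (Grp57.unitPt G)) := by
  have := LocallyOfFiniteType.isLocallyNoetherian G.hom
  let : Algebra K (G.left.presheaf.stalk (Grp57.unitPt G)) := (strMap G).hom.toAlgebra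
  have hev : ∀ c, evalMap G (strMap G c) = c := fun c => congr($(strMap_evalMap G) c)
  have hker : ∀ a, evalMap G a = 0 ↔ a ∈ maximalIdeal (G.left.presheaf.stalk (Grp57.unitPt G)) := by
    have : (RingHom.ker (evalMap G).hom).IsMaximal :=
      RingHom.ker_isMaximal_of_surjective _ fun c => ⟨strMap G c, hev c⟩
    intro a
    rw [← IsLocalRing.eq_maximalIdeal this]
    rfl
  have hres : ∀ a, a - strMap G (evalMap G a) ∈ maximalIdeal _ := fun a =>
    (hker _).1 (by rw [map_sub, hev, sub_self])
  refine isDomain_of_derivations (K := K) (fun a => ⟨_, hres a⟩) fun ℓ hℓ => ?_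
  obtain ⟨D, h1, h2, h3, h4⟩ := exists_derivation G
    (fun a => ℓ (a - strMap G (evalMap G a)))
    (fun a b => by
      show ℓ (a + b - strMap G (evalMap G (a + b))) = _
      rw [← map_add ℓ]; congr 1; rw [map_add]; erw [map_add]; ring)
    (fun a b => by
      show ℓ (a * b - strMap G (evalMap G (a * b))) = _
      set a' := a - strMap G (evalMap G a)
      set b' := b - strMap G (evalMap G b)
      have h0 : ℓ (a' * b') = 0 := hℓ _ (by rw [pow_two]; exact Ideal.mul_mem_mul (hres a) (hres b))
      have e : a * b - strMap G (evalMap G (a * b)) = evalMap G a • b' + evalMap G b • a' + a' * b' := by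
        simp only [Algebra.smul_def, a', b', map_mul]
        show _ = strMap G (evalMap G a) * _ + strMap G (evalMap G b) * _ + _
        ring
      rw [e, map_add, map_add, h0, add_zero, map_smul, map_smul, smul_eq_mul, smul_eq_mul])
    (fun c => by
      show ℓ (strMap G c - strMap G (evalMap G (strMap G c))) = 0
      rw [hev, sub_self, map_zero])
  refine ⟨Derivation.mk' { toFun := D, map_add' := h1, map_smul' := fun c a => ?_ } h2, fun a ha => ?_⟩
  · rw [RingHom.id_apply, Algebra.smul_def, Algebra.smul_def, h2]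
    show strMap G c * D a + a * D (strMap G c) = _
    rw [h3, mul_zero, add_zero]; rfl
  · refine (hker _).1 ?_
    show evalMap G (D a - strMap G (ℓ a)) = 0
    rw [map_sub, hev, h4, (hker a).2 ha, map_zero, sub_zero, sub_self]

end Groth.Agent.Cartier57
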