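import Groth.Agent.Cartier57.Stalk
import Groth.Agent.FBase64.PointCmp
import Mathlib.AlgebraicGeometry.AlgClosed.Basic
import Mathlib.AlgebraicGeometry.Group.Smooth
import Mathlib.RingTheory.Nilpotent.Basic
import Mathlib.RingTheory.LocalProperties.Reduced
import Mathlib.FieldTheory.IsAlgClosed.AlgebraicClosure

set_option autoImplicit false
universe u
open CategoryTheory CategoryTheory.Limits MonoidalCategory CartesianMonoidalCategory MonObj GrpObj AlgebraicGeometry

namespace Groth.Agent.Cartier57

theorem isReduced_of_closedPoints {X : Scheme.{u}} [JacobsonSpace X]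
    (h : ∀ x : X, IsClosed {x} → _root_.IsReduced (X.presheaf.stalk x)) : IsReduced X := by
  have key : ∀ U : X.Opens, IsAffineOpen U → _root_.IsReduced Γ(X, U) := by
    intro U hU
    refine isReduced_ofLocalizationMaximal _ fun J hJ => ?_
    let p : PrimeSpectrum Γ(X, U) := ⟨J, hJ.isPrime⟩
    have hpU : hU.fromSpec p ∈ U := hU.range_fromSpec.le ⟨p, rfl⟩
    have hclosed : IsClosed {hU.fromSpec p} := by
      have hp : p ∈ closedPoints (PrimeSpectrum Γ(X, U)) := (PrimeSpectrum.isClosed_singleton_iff_isMaximal p).2 hJ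
      exact (Set.ext_iff.1 hU.fromSpec.isOpenEmbedding.preimage_closedPoints p).2 hp
    have := h _ hclosed
    let := TopCat.Presheaf.algebra_section_stalk X.presheaf ⟨hU.fromSpec p, hpU⟩
    have : IsLocalization.AtPrime (X.presheaf.stalk (hU.fromSpec p)) J :=
      hU.isLocalization_stalk' p hpU
    exact isReduced_of_injective (IsLocalization.algEquiv J.primeCompl (Localization.AtPrime J)
      (X.presheaf.stalk (hU.fromSpec p))).toRingHom (AlgEquiv.injective _)
  have : ∀ x : X, _root_.IsReduced (X.presheaf.stalk x) := fun x => by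
    obtain ⟨_, ⟨U, hU, rfl⟩, hxU, -⟩ := X.isBasis_affineOpens.exists_subset_of_mem_open
      (Set.mem_univ x) isOpen_univ
    have := key U hU
    let := TopCat.Presheaf.algebra_section_stalk X.presheaf ⟨x, hxU⟩
    have := hU.isLocalization_stalk ⟨x, hxU⟩
    exact isReduced_localizationPreserves (hU.primeIdealOf ⟨x, hxU⟩).asIdeal.primeCompl _ ‹_›
  exact isReduced_of_isReduced_stalk X

variable {K : Type u} [Field K] [CharZero K]

theorem isReduced_of_isAlgClosed [IsAlgClosed K] (G : Over (Spec (CommRingCat.of K))) [GrpObj G]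
    [LocallyOfFiniteType G.hom] : IsReduced G.left := by
  have := LocallyOfFiniteType.jacobsonSpace G.hom
  refine isReduced_of_closedPoints fun x hx => ?_
  let p := (pointEquivClosedPoint G.hom).symm ⟨x, hx⟩
  let a : 𝟙_ (Over (Spec (CommRingCat.of K))) ⟶ G := Over.homMk p.1 p.2
  have ha : a.left (IsLocalRing.closedPoint K) = x := pointOfClosedPoint_apply G.hom x hx _
  have := isDomain_stalk_unit G
  let φ := (GrpObj.mulRight a).hom.left
  have : IsIso φ := ((Over.forget _).mapIso (GrpObj.mulRight a)).isIso_hom
  have hφ : φ (Grp57.unitPt G) = x := (Grp57.translate_unitPt a).trans ha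
  rw [← hφ]
  exact FBase64.isReduced_stalk_of_flat φ (Grp57.unitPt G)

theorem smooth (G : Over (Spec (CommRingCat.of K))) [GrpObj G]
    [LocallyOfFiniteType G.hom] : Smooth G.hom := by
  let σ := algebraMap K (AlgebraicClosure K)
  have : CharZero (AlgebraicClosure K) := charZero_of_injective_algebraMap σ.injective
  have : LocallyOfFiniteType (Grp57.bc G σ).hom :=
    MorphismProperty.pullback_snd (P := @LocallyOfFiniteType) _ _ ‹_›
  have : AlgebraicGeometry.IsReduced (FBase.bc G.hom (AlgebraicClosure K)) :=
    isReduced_of_isAlgClosed (Grp57.bc G σ)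
  have := FBase64.geometricallyReduced_of_isReduced_perfect G.hom (AlgebraicClosure K)
  exact @AlgebraicGeometry.smooth_of_grpObj K _ G.left G.hom _ ‹GrpObj G› _

end Groth.Agent.Cartier57
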