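import Mathlib.RingTheory.MvPolynomial.EulerIdentity
import Mathlib.Algebra.MvPolynomial.PDeriv
import Mathlib.RingTheory.Filtration
import Mathlib.RingTheory.Ideal.Cotangent
import Mathlib.RingTheory.Nakayama
import Mathlib.RingTheory.Derivation.Basic
import Mathlib.LinearAlgebra.Basis.VectorSpace
import Mathlib.Algebra.MvPolynomial.CommRing
import Mathlib.Algebra.MvPolynomial.Division
import Mathlib.Algebra.CharP.Algebra

/-!
Cartier's criterion: a Noetherian local `K`-algebra with rational residue field and enough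
derivations over a field of characteristic zero is a domain.
-/

set_option autoImplicit false
universe u v
open MvPolynomial IsLocalRing

namespace Groth.Agent.Cartier57

variable {K : Type u} [Field K] {A : Type v} [CommRing A] [Algebra K A]

theorem derivation_aeval {n : ℕ} (x : Fin n → A) (D : Derivation K A A) (p : MvPolynomial (Fin n) K) :
    D (aeval x p) = ∑ k, aeval x (pderiv k p) * D (x k) := by
  induction p using MvPolynomial.induction_on with
  | C a => simp
  | add p q hp hq => simp [hp, hq, add_mul, Finset.sum_add_distrib]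
  | mul_X p i hp =>
    have h : ∀ k, aeval x (pderiv k (p * X i)) * D (x k) =
        x i * (aeval x (pderiv k p) * D (x k)) + if k = i then aeval x p * D (x k) else 0 := by
      intro k
      rw [pderiv_mul, pderiv_X, Pi.single_apply]
      by_cases hk : k = i
      · subst hk; simp; ring
      · simp [hk, Ne.symm hk]; ring
    rw [Finset.sum_congr rfl fun k _ => h k]
    simp only [Finset.sum_add_distrib, ← Finset.mul_sum, Finset.sum_ite_eq', Finset.mem_univ,
      if_true, map_mul, aeval_X, Derivation.leibniz, smul_eq_mul, ← hp]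
    ring

variable [IsLocalRing A]

local notation "m" => maximalIdeal A

theorem derivation_mem_pow (D : Derivation K A A) :
    ∀ (j : ℕ) (a : A), a ∈ m ^ (j + 1) → D a ∈ m ^ j := by
  intro j
  induction j with
  | zero => intro a _; simp
  | succ j ih =>
    intro a ha
    rw [pow_succ] at ha
    induction ha using Submodule.mul_induction_on' with
    | mem_mul_mem b hb c hc =>
      rw [Derivation.leibniz, smul_eq_mul, smul_eq_mul]
      refine Ideal.add_mem _ (Ideal.mul_mem_right _ _ hb) ?_
      rw [pow_succ', ]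
      exact Ideal.mul_mem_mul hc (ih b hb)
    | add a _ b _ ha hb => rw [map_add]; exact Ideal.add_mem _ ha hb

variable {n : ℕ} {x : Fin n → A}

theorem aeval_mem_pow (hx : ∀ i, x i ∈ m) {j : ℕ} {p : MvPolynomial (Fin n) K}
    (hp : p.IsHomogeneous j) : aeval x p ∈ m ^ j := by
  rw [p.as_sum, map_sum]
  refine Ideal.sum_mem _ fun d hd => ?_
  rw [aeval_monomial]
  refine Ideal.mul_mem_left _ _ ?_
  have hdeg : d.degree = j := by
    have := hp (MvPolynomial.mem_support_iff.1 hd)
    simpa [Finsupp.weight_apply, Finsupp.degree_apply, Finsupp.sum] using this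
  subst hdeg
  clear hd hp
  rw [Finsupp.degree_apply, ← Finset.prod_pow_eq_pow_sum, Finsupp.prod]
  exact Ideal.prod_mem_prod fun i _ => Ideal.pow_mem_pow (hx i) _

variable [CharZero K]

theorem eq_zero_of_aeval_mem (hx : ∀ i, x i ∈ m) (D : Fin n → Derivation K A A)
    (hD : ∀ i k, D i (x k) - (if k = i then 1 else 0) ∈ m) :
    ∀ (j : ℕ) (p : MvPolynomial (Fin n) K), p.IsHomogeneous j → aeval x p ∈ m ^ (j + 1) → p = 0 := by
  intro j
  induction j with
  | zero =>
    intro p hp h
    rw [← totalDegree_zero_iff_isHomogeneous, totalDegree_eq_zero_iff_eq_C] at hp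
    rw [hp] at h ⊢
    simp only [aeval_C, zero_add, pow_one, mem_maximalIdeal, mem_nonunits_iff] at h
    by_contra hc
    exact h ((IsUnit.mk0 _ fun h0 => hc (by rw [h0, map_zero])).map (algebraMap K A))
  | succ j ih =>
    intro p hp h
    have hpd : ∀ k, (pderiv k p).IsHomogeneous j := fun k => by simpa using hp.pderiv (i := k)
    have hz : ∀ i, pderiv i p = 0 := fun i => by
      refine ih _ (hpd i) ?_
      have h1 := derivation_mem_pow (D i) (j + 1) _ h
      rw [derivation_aeval] at h1
      have h2 : ∑ k, aeval x (pderiv k p) * (D i (x k) - if k = i then 1 else 0) ∈ m ^ (j + 1) :=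
        Ideal.sum_mem _ fun k _ => by
          rw [pow_succ]; exact Ideal.mul_mem_mul (aeval_mem_pow hx (hpd k)) (hD i k)
      simp only [mul_sub, Finset.sum_sub_distrib, mul_ite, mul_one, mul_zero, Finset.sum_ite_eq',
        Finset.mem_univ, if_true] at h2
      simpa using Ideal.sub_mem _ h1 h2
    have he := hp.sum_X_mul_pderiv
    simp only [hz, mul_zero, Finset.sum_const_zero, nsmul_eq_mul] at he
    exact (mul_eq_zero.1 he.symm).resolve_left (Nat.cast_ne_zero.2 (Nat.succ_ne_zero j))

omit [CharZero K] in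
theorem exists_leading (hres : ∀ a : A, ∃ c : K, a - algebraMap K A c ∈ m)
    (hspan : m ≤ Ideal.span (Set.range x)) (hx : ∀ i, x i ∈ m) :
    ∀ (j : ℕ) (a : A), a ∈ m ^ j → ∃ p : MvPolynomial (Fin n) K, p.IsHomogeneous j ∧ a - aeval x p ∈ m ^ (j + 1) := by
  intro j
  induction j with
  | zero =>
    intro a _
    obtain ⟨c, hc⟩ := hres a
    exact ⟨C c, isHomogeneous_C _ _, by simpa using hc⟩
  | succ j ih =>
    intro a ha
    rw [pow_succ] at ha
    induction ha using Submodule.mul_induction_on' with
    | mem_mul_mem b hb c hc =>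
      obtain ⟨p, hp, hpb⟩ := ih b hb
      obtain ⟨r, rfl⟩ := Submodule.mem_span_range_iff_exists_fun A |>.1 (hspan hc)
      choose r' hr' using fun i => hres (r i)
      refine ⟨p * ∑ i, C (r' i) * X i, hp.mul (IsHomogeneous.sum _ _ _ fun i _ => ?_), ?_⟩
      · simpa using (isHomogeneous_C (Fin n) (r' i)).mul (isHomogeneous_X K i)
      · have h2 : ∑ i, r i • x i - aeval x (∑ i, C (r' i) * X i) ∈ m ^ 2 := by
          simp only [map_sum, map_mul, aeval_C, aeval_X, smul_eq_mul, ← Finset.sum_sub_distrib, ← sub_mul]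
          exact Ideal.sum_mem _ fun i _ => by rw [pow_two]; exact Ideal.mul_mem_mul (hr' i) (hx i)
        set c := ∑ i, r i • x i
        set l := aeval x (∑ i, C (r' i) * X i)
        have hl : l ∈ m := by
          have : c - (c - l) = l := by ring
          rw [← this]
          exact Ideal.sub_mem _ hc (Ideal.pow_le_self two_ne_zero h2)
        rw [map_mul, show b * c - aeval x p * l = b * (c - l) + (b - aeval x p) * l by ring]
        refine Ideal.add_mem _ ?_ ?_
        · rw [show j + 1 + 1 = j + 2 by ring, pow_add]; exact Ideal.mul_mem_mul hb h2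
        · rw [pow_succ]; exact Ideal.mul_mem_mul hpb hl
    | add a _ b _ ha hb =>
      obtain ⟨p, hp, hpa⟩ := ha
      obtain ⟨q, hq, hqb⟩ := hb
      refine ⟨p + q, hp.add hq, ?_⟩
      rw [map_add, show a + b - (aeval x p + aeval x q) = (a - aeval x p) + (b - aeval x q) by ring]
      exact Ideal.add_mem _ hpa hqb

theorem isDomain_of_coordinates [IsNoetherianRing A]
    (hres : ∀ a : A, ∃ c : K, a - algebraMap K A c ∈ m)
    (hspan : m ≤ Ideal.span (Set.range x)) (hx : ∀ i, x i ∈ m) (D : Fin n → Derivation K A A)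
    (hD : ∀ i k, D i (x k) - (if k = i then 1 else 0) ∈ m) : IsDomain A := by
  have hord : ∀ a : A, a ≠ 0 → ∃ (j : ℕ) (p : MvPolynomial (Fin n) K), p ≠ 0 ∧ p.IsHomogeneous j ∧
      a - aeval x p ∈ m ^ (j + 1) := by
    intro a ha
    have hex : ∃ j, a ∉ m ^ j := by
      by_contra hc
      push Not at hc
      have := Ideal.iInf_pow_eq_bot_of_isLocalRing (maximalIdeal A) (maximalIdeal.isMaximal A).ne_top
      exact ha (by simpa [this] using (Ideal.mem_iInf.2 hc : a ∈ ⨅ j, m ^ j))
    classical
    obtain ⟨j, hj⟩ : ∃ j, Nat.find hex = j + 1 := by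
      refine Nat.exists_eq_succ_of_ne_zero fun h => ?_
      have := Nat.find_spec hex
      rw [h] at this
      simp at this
    have h1 : a ∉ m ^ (j + 1) := hj ▸ Nat.find_spec hex
    have h2 : a ∈ m ^ j := not_not.1 (Nat.find_min hex (hj ▸ Nat.lt_succ_self j))
    obtain ⟨p, hp, hpa⟩ := exists_leading hres hspan hx j a h2
    refine ⟨j, p, fun h => h1 ?_, hp, hpa⟩
    simpa [h] using hpa
  refine @NoZeroDivisors.to_isDomain A _ _ ⟨fun {a b} hab => ?_⟩
  by_contra hc
  push Not at hc
  obtain ⟨j, p, hp0, hp, hpa⟩ := hord a hc.1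
  obtain ⟨l, q, hq0, hq, hqb⟩ := hord b hc.2
  refine mul_ne_zero hp0 hq0 (eq_zero_of_aeval_mem hx D hD (j + l) _ (hp.mul hq) ?_)
  rw [map_mul, show aeval x p * aeval x q =
      a * b - (a - aeval x p) * aeval x q - (b - aeval x q) * a by ring, hab, zero_sub]
  refine Ideal.sub_mem _ (Ideal.neg_mem_iff _ |>.2 ?_) ?_
  · rw [show j + l + 1 = (j + 1) + l by ring, pow_add]
    exact Ideal.mul_mem_mul hpa (aeval_mem_pow hx hq)
  · have ha : a ∈ m ^ j := by
      have := Ideal.add_mem _ (Ideal.pow_le_pow_right (Nat.le_succ j) hpa) (aeval_mem_pow hx hp)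
      simpa using this
    rw [show j + l + 1 = (l + 1) + j by ring, pow_add]
    exact Ideal.mul_mem_mul hqb ha

/-- Cartier's criterion -/
theorem isDomain_of_derivations [IsNoetherianRing A]
    (hres : ∀ a : A, ∃ c : K, a - algebraMap K A c ∈ m)
    (hD : ∀ ℓ : A →ₗ[K] K, (∀ a ∈ m ^ 2, ℓ a = 0) →
      ∃ D : Derivation K A A, ∀ a ∈ m, D a - algebraMap K A (ℓ a) ∈ m) : IsDomain A := by
  classical
  obtain ⟨s, hs⟩ := IsNoetherian.noetherian (maximalIdeal A)
  let N : Submodule K A := (m ^ 2).restrictScalars K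
  let q : A →ₗ[K] A ⧸ N := N.mkQ
  obtain ⟨b, hbs, hbspan, hbli⟩ := exists_linearIndependent K (q '' (s : Set A))
  have hbfin : b.Finite := (s.finite_toSet.image q).subset hbs
  have : Fintype b := hbfin.fintype
  let e := (Fintype.equivFin b).symm
  choose y hy hqy using fun i => hbs (e i).2
  have hy' : ∀ i, y i ∈ m := fun i => hs ▸ Submodule.subset_span (hy i)
  have hspan : m ≤ Ideal.span (Set.range y) := by
    refine Submodule.le_of_le_smul_of_le_jacobson_bot (IsNoetherian.noetherian (maximalIdeal A))
      (maximalIdeal_le_jacobson ⊥) ?_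
    refine hs.symm.le.trans (Submodule.span_le.2 fun a ha => ?_)
    have h1 : q a ∈ Submodule.span K (q '' Set.range y) := by
      refine Submodule.span_mono ?_ (hbspan.ge (Submodule.subset_span ⟨a, ha, rfl⟩))
      intro w hw
      exact ⟨y (e.symm ⟨w, hw⟩), ⟨_, rfl⟩, by rw [hqy, Equiv.apply_symm_apply]⟩
    rw [← Submodule.map_span, Submodule.mem_map] at h1
    obtain ⟨w, hw, hwa⟩ := h1
    rw [SetLike.mem_coe, Submodule.mem_sup]
    refine ⟨w, Submodule.span_le_restrictScalars K A _ hw, a - w, ?_, by ring⟩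
    have : a - w ∈ m ^ 2 := (Submodule.Quotient.eq N).1 hwa.symm
    rw [smul_eq_mul, ← pow_two]; exact this
  have hli : LinearIndependent K fun i => q (y i) := by
    have : (fun i => q (y i)) = Subtype.val ∘ e := funext fun i => hqy i
    rw [this]
    exact hbli.comp _ e.injective
  obtain ⟨g, hg⟩ := LinearMap.exists_leftInverse_of_injective
    (Fintype.linearCombination K (fun i => q (y i))) (Fintype.linearIndependent_iff.1 hli |> fun h =>
      LinearMap.ker_eq_bot'.2 fun c hc => funext (h c (by simpa [Fintype.linearCombination_apply] using hc)))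
  let ℓ : Fin (Fintype.card b) → A →ₗ[K] K := fun i => LinearMap.proj i ∘ₗ g ∘ₗ q
  choose D hD' using fun i => hD (ℓ i) (fun a ha => by
    simp [ℓ, show q a = 0 from (Submodule.Quotient.mk_eq_zero N).2 ha])
  refine isDomain_of_coordinates (x := y) hres hspan hy' D fun i k => ?_
  have hk : g (q (y k)) = Pi.single k 1 := by
    have := LinearMap.congr_fun hg (Pi.single k 1)
    simpa [Fintype.linearCombination_apply_single] using this
  have : algebraMap K A (ℓ i (y k)) = if k = i then 1 else 0 := by
    simp [ℓ, hk, Pi.single_apply, eq_comm, apply_ite (algebraMap K A)]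
  exact this ▸ hD' i (y k) (hy' k)

end Groth.Agent.Cartier57
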